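import Mathlib
import Groth.Prelude.Def_PolLaw
import Groth.Prelude.Def_FrobAlg
import Groth.Agent.Lib.Helper6.Seid.SeidB

set_option autoImplicit false
set_option linter.unusedSectionVars false
set_option linter.unusedVariables false
set_option linter.unusedSimpArgs false
set_option linter.style.haveILetI false
set_option maxHeartbeats 400000

/-!
# The `p`-th power law `k^{1/p} → k`
-/

universe u

open scoped TensorProduct

namespace Groth.Agent.Lib.Helper6.FrobTw

section frob

variable (p : ℕ) [Fact p.Prime] (k : Type u) [Field k] [CharP k p]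

theorem add_pow_p (E : Type u) [CommSemiring E] [Algebra k E] (x y : E) :
    (x + y) ^ p = x ^ p + y ^ p := by
  rcases subsingleton_or_nontrivial E with h | h
  · exact Subsingleton.elim _ _
  · haveI : CharP E p := charP_of_injective_algebraMap (algebraMap k E).injective p
    exact add_pow_char x y p

theorem pow_p_twist (a : FrobAlg.Twist p k) :
    a ^ p = algebraMap k (FrobAlg.Twist p k) ((FrobAlg.toTwist p k).symm a) := by
  rw [FrobAlg.algebraMap_twist, map_pow, RingEquiv.apply_symm_apply]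

theorem exists_retraction :
    ∃ r : FrobAlg.Twist p k →ₗ[k] k, ∀ c : k, r (algebraMap k (FrobAlg.Twist p k) c) = c := by
  haveI : Nontrivial (FrobAlg.Twist p k) := inferInstanceAs (Nontrivial k)
  have hinj : Function.Injective (Algebra.linearMap k (FrobAlg.Twist p k)) :=
    (algebraMap k (FrobAlg.Twist p k)).injective
  obtain ⟨r, hr⟩ := (Algebra.linearMap k (FrobAlg.Twist p k)).exists_leftInverse_of_injective
    (LinearMap.ker_eq_bot.mpr hinj)
  exact ⟨r, fun c => LinearMap.congr_fun hr c⟩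

variable {p k}

/-- The inclusion `S ⊗ k → S ⊗ K`. -/
noncomputable def incl (S : Type u) [CommSemiring S] [Algebra k S] :
    S ⊗[k] k →ₐ[S] S ⊗[k] FrobAlg.Twist p k :=
  Algebra.TensorProduct.map (AlgHom.id S S) (Algebra.ofId k (FrobAlg.Twist p k))

theorem incl_tmul (S : Type u) [CommSemiring S] [Algebra k S] (s : S) (c : k) :
    incl (p := p) (k := k) S (s ⊗ₜ[k] c) = s ⊗ₜ[k] algebraMap k (FrobAlg.Twist p k) c := rfl

theorem exists_pow_eq_incl (S : Type u) [CommSemiring S] [Algebra k S]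
    (x : S ⊗[k] FrobAlg.Twist p k) : ∃ u : S ⊗[k] k, x ^ p = incl (p := p) (k := k) S u := by
  induction x using TensorProduct.induction_on with
  | zero =>
    refine ⟨0, ?_⟩
    rw [map_zero, zero_pow (Fact.out : p.Prime).ne_zero]
  | tmul s a =>
    refine ⟨(s ^ p) ⊗ₜ[k] (FrobAlg.toTwist p k).symm a, ?_⟩
    rw [Algebra.TensorProduct.tmul_pow, incl_tmul, pow_p_twist]
  | add x y hx hy =>
    obtain ⟨u, hu⟩ := hx
    obtain ⟨v, hv⟩ := hy
    refine ⟨u + v, ?_⟩
    rw [add_pow_p p k, hu, hv, map_add]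

theorem lTensor_incl (r : FrobAlg.Twist p k →ₗ[k] k)
    (hr : ∀ c : k, r (algebraMap k (FrobAlg.Twist p k) c) = c)
    (S : Type u) [CommSemiring S] [Algebra k S] (u : S ⊗[k] k) :
    r.lTensor S (incl (p := p) (k := k) S u) = u := by
  induction u using TensorProduct.induction_on with
  | zero => simp
  | tmul s c =>
    rw [incl_tmul, LinearMap.lTensor_tmul, hr]
  | add x y hx hy => rw [map_add, map_add, hx, hy]

/-- The `p`-th power law attached to a retraction. -/
noncomputable def frobLaw (r : FrobAlg.Twist p k →ₗ[k] k) : FrobAlg.Twist p k →ₚₗ[k] k :=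
  PolLaw.postcomp r (PolLaw.powLaw p)

theorem frobLaw_apply (r : FrobAlg.Twist p k →ₗ[k] k) (S : Type u) [CommSemiring S]
    [Algebra k S] (x : S ⊗[k] FrobAlg.Twist p k) :
    (frobLaw r).toFun' S x = r.lTensor S (x ^ p) := rfl

theorem frobLaw_eq (r : FrobAlg.Twist p k →ₗ[k] k)
    (hr : ∀ c : k, r (algebraMap k (FrobAlg.Twist p k) c) = c)
    (S : Type u) [CommSemiring S] [Algebra k S] (x : S ⊗[k] FrobAlg.Twist p k)
    (u : S ⊗[k] k) (hu : x ^ p = incl (p := p) (k := k) S u) : (frobLaw r).toFun' S x = u := by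
  rw [frobLaw_apply, hu, lTensor_incl r hr]

/-- The multiplicative law. -/
noncomputable def frobMulLaw (r : FrobAlg.Twist p k →ₗ[k] k)
    (hr : ∀ c : k, r (algebraMap k (FrobAlg.Twist p k) c) = c) :
    PolLaw.MulLaw k (FrobAlg.Twist p k) k p where
  law := frobLaw r
  homog S _ _ s x := by
    obtain ⟨u, hu⟩ := exists_pow_eq_incl (p := p) (k := k) S x
    have h1 : (s • x) ^ p = incl (p := p) (k := k) S (s ^ p • u) := by
      rw [smul_pow, hu, map_smul]
    rw [frobLaw_eq r hr S (s • x) _ h1, frobLaw_eq r hr S x u hu]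
  mult S _ _ := by
    refine ⟨?_, fun x y => ?_⟩
    · have h1 : (1 : S ⊗[k] FrobAlg.Twist p k) ^ p = incl (p := p) (k := k) S 1 := by
        rw [one_pow, map_one]
      exact frobLaw_eq r hr S 1 1 h1
    · obtain ⟨u, hu⟩ := exists_pow_eq_incl (p := p) (k := k) S x
      obtain ⟨v, hv⟩ := exists_pow_eq_incl (p := p) (k := k) S y
      have h1 : (x * y) ^ p = incl (p := p) (k := k) S (u * v) := by
        rw [mul_pow, hu, hv, map_mul]
      rw [frobLaw_eq r hr S (x * y) _ h1, frobLaw_eq r hr S x u hu, frobLaw_eq r hr S y v hv]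

theorem frobMulLaw_tmul (r : FrobAlg.Twist p k →ₗ[k] k)
    (hr : ∀ c : k, r (algebraMap k (FrobAlg.Twist p k) c) = c)
    (S : Type u) [CommSemiring S] [Algebra k S] (s : S) (a : FrobAlg.Twist p k) :
    (frobMulLaw r hr).law.toFun' S (s ⊗ₜ[k] a) =
      (s ^ p) ⊗ₜ[k] (FrobAlg.toTwist p k).symm a := by
  apply frobLaw_eq r hr
  rw [Algebra.TensorProduct.tmul_pow, incl_tmul, pow_p_twist]

/-- Any law with the given formula on pure tensors has trivial kernel. -/
theorem ker_eq_bot (F : PolLaw.MulLaw k (FrobAlg.Twist p k) k p)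
    (hF : ∀ (S : Type u) [CommSemiring S] [Algebra k S] (s : S) (a : FrobAlg.Twist p k),
      F.law.toFun' S (s ⊗ₜ[k] a) = (s ^ p) ⊗ₜ[k] (FrobAlg.toTwist p k).symm a) :
    PolLaw.ker F.law = ⊥ := by
  rw [eq_bot_iff]
  intro b hb
  rw [Ideal.mem_bot]
  have h1 := hb k (0 : k ⊗[k] FrobAlg.Twist p k) ((1 : k) ⊗ₜ[k] (1 : FrobAlg.Twist p k))
  rw [zero_add, Algebra.TensorProduct.tmul_mul_tmul, one_mul, one_mul, hF] at h1
  have h2 : F.law.toFun' k (0 : k ⊗[k] FrobAlg.Twist p k) = 0 := by
    have := hF k (0 : k) (0 : FrobAlg.Twist p k)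
    rw [TensorProduct.zero_tmul] at this
    rw [this, zero_pow (Fact.out : p.Prime).ne_zero, TensorProduct.zero_tmul]
  rw [h2, one_pow] at h1
  have h3 := congrArg (TensorProduct.lid k k) h1
  rw [TensorProduct.lid_tmul, one_smul, map_zero] at h3
  exact (FrobAlg.toTwist p k).symm.injective (by rw [h3, map_zero])

end frob

end Groth.Agent.Lib.Helper6.FrobTw
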