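import Mathlib
import Groth.Agent.Lib.Helper6.FrobTw.FTa

set_option autoImplicit false
set_option linter.unusedSectionVars false
set_option linter.unusedVariables false
set_option linter.unusedSimpArgs false
set_option linter.style.haveILetI false
set_option maxHeartbeats 400000

open scoped TensorProduct

namespace Groth.Agent.Lib.Helper6.FrobTw

theorem not_finite_twist (p : ℕ) [Fact p.Prime] :
    ¬ Module.Finite (FractionRing (MvPolynomial ℕ (ZMod p)))
      (FrobAlg.Twist p (FractionRing (MvPolynomial ℕ (ZMod p)))) := by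
  intro hfin
  let v : ℕ → FrobAlg.Twist p (FractionRing (MvPolynomial ℕ (ZMod p))) := fun i =>
    FrobAlg.toTwist p (FractionRing (MvPolynomial ℕ (ZMod p)))
      (algebraMap (MvPolynomial ℕ (ZMod p)) (FractionRing (MvPolynomial ℕ (ZMod p)))
        (MvPolynomial.X i))
  have hli : LinearIndependent (FractionRing (MvPolynomial ℕ (ZMod p))) v := by
    rw [linearIndependent_iff']
    intro s g hsum j hj
    have hterm : ∀ i, (FrobAlg.toTwist p (FractionRing (MvPolynomial ℕ (ZMod p)))).symm
        (g i • v i) = (g i) ^ p * algebraMap (MvPolynomial ℕ (ZMod p))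
          (FractionRing (MvPolynomial ℕ (ZMod p))) (MvPolynomial.X i) := by
      intro i
      rw [Algebra.smul_def, FrobAlg.algebraMap_twist, map_mul, RingEquiv.symm_apply_apply]
      show _ * (FrobAlg.toTwist p _).symm (FrobAlg.toTwist p _ _) = _
      rw [RingEquiv.symm_apply_apply]
    have h1 : ∑ i ∈ s, (g i) ^ p * algebraMap (MvPolynomial ℕ (ZMod p))
          (FractionRing (MvPolynomial ℕ (ZMod p))) (MvPolynomial.X i) = 0 := by
      have h0 := congrArg (FrobAlg.toTwist p (FractionRing (MvPolynomial ℕ (ZMod p)))).symm hsum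
      rw [map_sum, map_zero] at h0
      rw [← h0]
      exact Finset.sum_congr rfl fun i _ => (hterm i).symm
    let D := Seid.extDer (MvPolynomial.pderiv j :
      Derivation (ZMod p) (MvPolynomial ℕ (ZMod p)) (MvPolynomial ℕ (ZMod p)))
    have h2 := congrArg D h1
    rw [map_sum, map_zero] at h2
    have hpow : ∀ c : FractionRing (MvPolynomial ℕ (ZMod p)), D (c ^ p) = 0 := by
      intro c
      rw [Derivation.leibniz_pow, nsmul_eq_mul, CharP.cast_eq_zero, zero_mul]
    have h3 : ∀ i, D ((g i) ^ p * algebraMap (MvPolynomial ℕ (ZMod p))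
          (FractionRing (MvPolynomial ℕ (ZMod p))) (MvPolynomial.X i)) =
        if i = j then (g i) ^ p else 0 := by
      intro i
      rw [Derivation.leibniz, hpow, smul_zero, add_zero, Seid.extDer_algebraMap,
        MvPolynomial.pderiv_X, smul_eq_mul]
      by_cases hij : i = j
      · subst hij
        simp
      · rw [if_neg hij, Pi.single_apply, if_neg hij, map_zero, mul_zero]
    rw [Finset.sum_congr rfl (fun i _ => h3 i), Finset.sum_ite_eq' s j, if_pos hj] at h2
    exact pow_eq_zero_iff (Fact.out : p.Prime).ne_zero |>.mp h2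
  haveI := hli.finite
  exact not_finite ℕ

end Groth.Agent.Lib.Helper6.FrobTw
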